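import Cfsg.Agent.UThreeSylow.Aut

/-!
# Centre, involutions and scalar automorphisms of the Sylow 2-subgroup of `SU₃(2ⁿ)`
-/

set_option autoImplicit false

namespace CfsgLib.UThreeSylow

variable {F : Type*} [Field F] [Fintype F] {n q : ℕ} {h : Good F n q}

theorem commute_of_cA_zero {g : uSub h} (hg : cA g = 0) (g' : uSub h) : g * g' = g' * g := by
  obtain ⟨hz, he⟩ := zEl_cB hg
  rw [← he, zEl_comm]

theorem mem_center_iff {g : uSub h} : g ∈ Subgroup.center (uSub h) ↔ cA g = 0 := by
  refine ⟨fun hg => ?_, fun hg => Subgroup.mem_center_iff.2 fun g' => (commute_of_cA_zero hg g').symm⟩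
  obtain ⟨ω, hω⟩ := exists_trace h (one_pow q)
  have e := congrArg cB (Subgroup.mem_center_iff.1 hg (gA h (cA g * ω)))
  rw [(coords_mul _ _).2, (coords_mul _ _).2, cA_gA, mul_pow] at e
  have h1 : cA g ^ q * cA g = 0 := by
    linear_combination e - cA g ^ q * cA g * hω + cA g ^ q * cA g * ω * h.two
  rcases mul_eq_zero.1 h1 with h2 | h2
  · exact eq_zero_of_pow_eq_zero h2
  · exact h2

theorem card_center (h : Good F n q) : Nat.card (Subgroup.center (uSub h)) = q := by
  refine ((Nat.card_congr (Equiv.ofBijective (fun z : (trace h).ker =>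
    (⟨zEl h z, mem_center_iff.2 (zEl_spec z).1⟩ : Subgroup.center (uSub h))) ⟨?_, ?_⟩)).symm).trans
    (card_fixed_and_surj h).1
  · exact fun z z' e => zEl_injective (congrArg Subtype.val e)
  · rintro ⟨g, hg⟩
    obtain ⟨hz, he⟩ := zEl_cB (mem_center_iff.1 hg)
    exact ⟨⟨_, hz⟩, Subtype.ext he⟩

theorem sq_eq_one_iff {g : uSub h} : g * g = 1 ↔ cA g = 0 := by
  refine ⟨fun e => ?_, fun e => ?_⟩
  · have h1 := (coords_sq g).2
    rw [e, coords_one.2] at h1
    exact eq_zero_of_pow_eq_zero h1.symm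
  · exact coords_ext (by rw [(coords_sq g).1, coords_one.1])
      (by rw [(coords_sq g).2, coords_one.2, e, zero_pow (Nat.succ_ne_zero q)])

theorem exists_norm_eq (h : Good F n q) {z : F} (hz : z ^ q = z) :
    ∃ k : F, k ^ q = k ∧ k ^ 2 = z ∧ k ^ (q + 1) = z := by
  set k := z ^ 2 ^ (2 * n - 1) with hk
  have hkK : k ^ q = k := by rw [hk, ← pow_mul, mul_comm, pow_mul, hz]
  have hk2 : k ^ 2 = z := by
    rw [hk, ← pow_mul, ← pow_succ, Nat.sub_add_cancel (by have := h.n_pos; omega)]
    exact pow_two_pow_card h z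
  exact ⟨k, hkK, hk2, by rw [pow_succ, hkK, ← sq, hk2]⟩

theorem eq_of_sq_eq (h : Good F n q) {x y : F} (e : x ^ 2 = y ^ 2) : x = y := by
  have h1 : (x - y) ^ 2 = 0 := by linear_combination e + (y ^ 2 - x * y) * h.two
  linear_combination eq_zero_of_pow_eq_zero h1

theorem center_eq_commutator (h : Good F n q) :
    Subgroup.center (uSub h) = commutator (uSub h) := by
  refine le_antisymm ?_ ?_
  · intro g hg
    obtain ⟨ω, hω⟩ := exists_trace h (one_pow q)
    obtain ⟨hz, he⟩ := zEl_cB (mem_center_iff.1 hg)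
    obtain ⟨k, -, -, hk⟩ := exists_norm_eq h ((mem_trace_ker h).1 hz)
    open scoped commutatorElement in
    have key : ⁅gA h k, gA h (k * ω)⁆ = g := by
      have hc : gA h k * gA h (k * ω) = zEl h ⟨cB g, hz⟩ * (gA h (k * ω) * gA h k) := by
        refine coords_ext ?_ ?_
        · rw [(coords_mul _ _).1, (coords_mul _ _).1, (coords_mul _ _).1, (zEl_spec _).1, zero_add,
            add_comm]
        · rw [(coords_mul _ _).2, (coords_mul _ _).2, (coords_mul _ _).2, (zEl_spec _).1,
            (zEl_spec _).2, zero_pow (show q ≠ 0 from by have := h.two_le; omega), cA_gA, cA_gA,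
            mul_pow]
          rw [pow_succ] at hk
          linear_combination k ^ q * k * hω + hk - k * k ^ q * ω ^ q * h.two
      rw [commutatorElement_def, hc, he]
      group
    rw [← key]
    exact Subgroup.commutator_mem_commutator (Subgroup.mem_top _) (Subgroup.mem_top _)
  · rw [commutator_eq_closure, Subgroup.closure_le]
    rintro _ ⟨a, b, rfl⟩
    open scoped commutatorElement in
    have key : cA ⁅a, b⁆ = 0 := by
      have h1 := (coords_mul ⁅a, b⁆ (b * a)).1
      rw [show ⁅a, b⁆ * (b * a) = a * b by rw [commutatorElement_def]; group, (coords_mul _ _).1,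
        (coords_mul _ _).1] at h1
      linear_combination -h1
    exact mem_center_iff.2 key

theorem center_eq_closure (h : Good F n q) :
    Subgroup.center (uSub h) = Subgroup.closure {x : uSub h | orderOf x = 2} := by
  refine le_antisymm (fun g hg => ?_) ?_
  · by_cases h1 : g = 1
    · rw [h1]; exact one_mem _
    refine Subgroup.subset_closure ?_
    exact orderOf_eq_prime ((sq g).trans (sq_eq_one_iff.2 (mem_center_iff.1 hg))) h1
  · rw [Subgroup.closure_le]
    intro x hx
    refine mem_center_iff.2 (sq_eq_one_iff.1 ?_)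
    rw [← sq, ← (hx : orderOf x = 2), pow_orderOf_eq_one]

/-- Automorphisms whose square fixes first coordinates fix the centre. -/
theorem fix_center_of_sq (f : MulAut (uSub h)) (hf : ∀ a, actA (f * f) a = a) {g : uSub h}
    (hg : cA g = 0) : f g = g := by
  obtain ⟨c, hc, i, hi, hfi⟩ := exists_semilinear_act f
  have h2 : ∀ a, c * c ^ 2 ^ i * a ^ 2 ^ (i + i) = a := fun a => by
    have e := hf a
    rw [actA_mul, hfi, hfi, mul_pow, ← pow_mul, ← pow_add] at e
    rw [mul_assoc]; exact e
  have hcc : c * c ^ 2 ^ i = 1 := by simpa using h2 1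
  have hi2 : i = 0 ∨ i = n := by
    rcases lt_or_ge (i + i) (2 * n) with hlt | hge
    · left
      have := frob_inj h hlt (by omega : 0 < 2 * n) fun a => by
        have := h2 a
        rw [hcc, one_mul] at this
        simp [this]
      omega
    · right
      have := frob_inj h (by omega : i + i - 2 * n < 2 * n) (by omega : 0 < 2 * n) fun a => by
        have := h2 a
        rw [hcc, one_mul, ← Nat.sub_add_cancel hge, pow_add, pow_mul, pow_two_pow_card h] at this
        simp [this]
      omega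
  have hN : ∀ a, actA f a ^ (q + 1) = a ^ (q + 1) := by
    intro a
    rw [hfi]
    rcases hi2 with h0 | h0 <;> rw [h0] at hcc ⊢
    · rw [pow_zero, pow_one, ← sq] at hcc
      rw [eq_of_sq_eq h (hcc.trans (one_pow 2).symm)]
      simp
    · rw [← h.q_eq] at hcc ⊢
      rw [mul_pow, pow_succ' c q, hcc, one_mul, ← pow_mul, mul_comm q, pow_mul, h.norm_fixed]
  obtain ⟨hz, -⟩ := zEl_cB hg
  obtain ⟨k, -, -, hk⟩ := exists_norm_eq h ((mem_trace_ker h).1 hz)
  refine coords_ext ((cA_map_zero f hg).trans hg.symm) ?_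
  rw [← actB_cB f hg, ← hk, ← actB_norm, hN, hk]

theorem exists_scal (h : Good F n q) (c : (fixedField h)ˣ) :
    ∃ f : MulAut (uSub h), ∀ g, cA (f g) = (c : fixedField h) * cA g ∧
      cB (f g) = ((c : fixedField h) : F) ^ 2 * cB g := by
  classical
  set d : F := ((c : fixedField h) : F) with hd
  have hd0 : d ≠ 0 := fun e => c.ne_zero (Subtype.ext e)
  have hdq : d ^ q = d := (c : fixedField h).2
  have hex : ∀ g : uSub h, ∃ g' : uSub h, cA g' = d * cA g ∧ cB g' = d ^ 2 * cB g := by
    intro g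
    refine exists_coords h ?_
    rw [mul_pow, mul_pow, pow_succ d q, hdq, ← (coords_spec g).1, ← pow_mul d 2, mul_comm 2, pow_mul,
      hdq]
    ring
  choose Φ hΦ using hex
  let Φ' : uSub h →* uSub h :=
    { toFun := Φ
      map_one' := coords_ext (by rw [(hΦ 1).1, coords_one.1, mul_zero])
        (by rw [(hΦ 1).2, coords_one.2, mul_zero])
      map_mul' := fun g g' => coords_ext
        (by rw [(hΦ _).1, (coords_mul _ _).1, (coords_mul _ _).1, (hΦ g).1, (hΦ g').1, mul_add])
        (by
          rw [(hΦ _).2, (coords_mul _ _).2, (coords_mul _ _).2, (hΦ g).2, (hΦ g').2, (hΦ g).1,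
            (hΦ g').1, mul_pow d, hdq]
          ring) }
  have hinj : Function.Injective Φ' := by
    intro g g' e
    have eA : cA (Φ g) = cA (Φ g') := congrArg cA e
    have eB : cB (Φ g) = cB (Φ g') := congrArg cB e
    rw [(hΦ g).1, (hΦ g').1] at eA
    rw [(hΦ g).2, (hΦ g').2] at eB
    exact coords_ext (mul_left_cancel₀ hd0 eA) (mul_left_cancel₀ (pow_ne_zero _ hd0) eB)
  exact ⟨MulEquiv.ofBijective Φ' (Finite.injective_iff_bijective.1 hinj), hΦ⟩

/-- Scalar automorphisms. -/
noncomputable def scal (h : Good F n q) : (fixedField h)ˣ →* MulAut (uSub h) :=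
  MonoidHom.mk' (fun c => (exists_scal h c).choose) fun c c' => MulEquiv.ext fun g => by
    refine coords_ext ?_ ?_
    · rw [((exists_scal h (c * c')).choose_spec g).1, MulAut.mul_apply,
        ((exists_scal h c).choose_spec _).1, ((exists_scal h c').choose_spec g).1, Units.val_mul]
      push_cast
      ring
    · rw [((exists_scal h (c * c')).choose_spec g).2, MulAut.mul_apply,
        ((exists_scal h c).choose_spec _).2, ((exists_scal h c').choose_spec g).2, Units.val_mul]
      push_cast
      ring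

theorem scal_spec (c : (fixedField h)ˣ) (g : uSub h) :
    cA (scal h c g) = (c : fixedField h) * cA g ∧
      cB (scal h c g) = ((c : fixedField h) : F) ^ 2 * cB g :=
  (exists_scal h c).choose_spec g

theorem isSuzukiTwoGroup (h : Good F n q) (hn : 2 ≤ n) : Cfsg.IsSuzukiTwoGroup (uSub h) := by
  classical
  haveI : Fact (Nat.Prime 2) := ⟨Nat.prime_two⟩
  haveI : Finite (fixedField h) := Finite.of_injective _ Subtype.val_injective
  have hq4 : 4 ≤ q := by
    rw [h.q_eq]
    calc (4 : ℕ) = 2 ^ 2 := rfl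
      _ ≤ 2 ^ n := Nat.pow_le_pow_right (by norm_num) hn
  have hp : IsPGroup 2 (uSub h) := IsPGroup.of_card (n := n * 3) (by rw [card_uSub, h.q_eq, ← pow_mul])
  refine ⟨inferInstance, hp, ?_, ?_, (scal h).range,
    isCyclic_of_surjective (scal h).rangeRestrict (scal h).rangeRestrict_surjective, ?_⟩
  · by_contra hab
    push Not at hab
    have h1 := Subgroup.card_le_of_le (show (⊤ : Subgroup (uSub h)) ≤ Subgroup.center (uSub h) from
      fun x _ => Subgroup.mem_center_iff.2 fun y => hab y x)
    rw [Subgroup.card_top, card_uSub, card_center] at h1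
    nlinarith [Nat.pow_lt_pow_right (show 1 < q by omega) (show 1 < 3 by norm_num)]
  · have h3 : ∃ z z' : (trace h).ker, z ≠ 0 ∧ z' ≠ 0 ∧ z ≠ z' := by
      haveI : Fintype (trace h).ker := Fintype.ofFinite _
      have h2 : 2 < (Finset.univ : Finset (trace h).ker).card := by
        rw [Finset.card_univ, ← Nat.card_eq_fintype_card, (card_fixed_and_surj h).1]; omega
      have h2' : 1 < ((Finset.univ : Finset (trace h).ker).erase 0).card := by
        rw [Finset.card_erase_of_mem (Finset.mem_univ _)]; omega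
      obtain ⟨z, hz, z', hz', hne⟩ := Finset.one_lt_card.1 h2'
      exact ⟨z, z', Finset.ne_of_mem_erase hz, Finset.ne_of_mem_erase hz', hne⟩
    obtain ⟨z, z', hz, hz', hne⟩ := h3
    refine ⟨zEl h z, zEl h z', fun e => hne (zEl_injective e), fun e => hz ?_,
      sq_eq_one_iff.2 (zEl_spec z).1, fun e => hz' ?_, sq_eq_one_iff.2 (zEl_spec z').1⟩
    · exact Subtype.ext (by rw [← (zEl_spec z).2, e, coords_one.2]; rfl)
    · exact Subtype.ext (by rw [← (zEl_spec z').2, e, coords_one.2]; rfl)
  · intro x y hx1 hxx hy1 hyy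
    have hxA := sq_eq_one_iff.1 hxx
    have hyA := sq_eq_one_iff.1 hyy
    have hxK := (mem_trace_ker h).1 (zEl_cB hxA).1
    have hyK := (mem_trace_ker h).1 (zEl_cB hyA).1
    have hx0 : cB x ≠ 0 := fun e => hx1 (coords_ext (hxA.trans coords_one.1.symm)
      (e.trans coords_one.2.symm))
    have hy0 : cB y ≠ 0 := fun e => hy1 (coords_ext (hyA.trans coords_one.1.symm)
      (e.trans coords_one.2.symm))
    obtain ⟨k, hk, hk2, -⟩ := exists_norm_eq h (z := cB y / cB x) (by rw [div_pow, hyK, hxK])
    have hk0 : (⟨k, hk⟩ : fixedField h) ≠ 0 := fun e => by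
      have : k = 0 := congrArg Subtype.val e
      rw [this, zero_pow two_ne_zero] at hk2
      exact div_ne_zero hy0 hx0 hk2.symm
    refine ⟨⟨_, Units.mk0 (⟨k, hk⟩ : fixedField h) hk0, rfl⟩, ?_, ?_⟩
    · refine coords_ext ?_ ?_
      · rw [(scal_spec _ x).1, hxA, hyA, mul_zero]
      · rw [(scal_spec _ x).2, Units.val_mk0, hk2, div_mul_cancel₀ _ hx0]
    · rintro ⟨_, c, rfl⟩ hc
      refine Subtype.ext (congrArg (scal h) (Units.ext (Subtype.ext (eq_of_sq_eq h ?_))))
      have e : ((c : fixedField h) : F) ^ 2 * cB x = cB y := by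
        rw [← (scal_spec c x).2]; exact congrArg cB hc
      rw [Units.val_mk0, hk2, eq_div_iff hx0, e]

/-- Sylow 2-subgroups of `PSU₃(q)`, `q` even, are isomorphic to `uSub`. -/
theorem nonempty_equiv_sylow_PSU (h : Good F n q) (S : Sylow 2 (Cfsg.PSU 3 F q)) :
    Nonempty (uSub h ≃* (S : Subgroup (Cfsg.PSU 3 F q))) := by
  classical
  haveI : Fact (Nat.Prime 2) := ⟨Nat.prime_two⟩
  have hodd : ¬ 2 ∣ Nat.card (Subgroup.center (Cfsg.SU 3 F q)) := by
    rw [CfsgLib.Forms4.card_center_SU h.card_eq (by norm_num)]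
    intro hd
    have := hd.trans (Nat.gcd_dvd_left 3 (q + 1))
    norm_num at this
  set Z := Subgroup.center (Cfsg.SU 3 F q) with hZ
  let π := (QuotientGroup.mk' Z).comp (uSub h).subtype
  have hπ : Function.Injective π := by
    rw [← MonoidHom.ker_eq_bot_iff, eq_bot_iff]
    intro g hg
    have hgZ : (g : Cfsg.SU 3 F q) ∈ Z := (QuotientGroup.eq_one_iff _).1 hg
    have h1 : orderOf g ∣ Nat.card Z := by
      rw [← Subgroup.orderOf_coe]; exact Z.orderOf_dvd_natCard hgZ
    have h2 : orderOf g ∣ 2 ^ (n * 3) := by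
      rw [pow_mul, ← h.q_eq, ← card_uSub h]; exact orderOf_dvd_natCard g
    exact Subgroup.mem_bot.2 (orderOf_eq_one_iff.1 (Nat.eq_one_of_dvd_coprimes
      (((Nat.Prime.coprime_iff_not_dvd Nat.prime_two).2 hodd).pow_left _) h2 h1))
  obtain ⟨P, -⟩ : ∃ P : Sylow 2 (Cfsg.SU 3 F q), True := ⟨default, trivial⟩
  obtain ⟨eP⟩ := nonempty_equiv_sylow h P
  have hc : Nat.card π.range = 2 ^ (Nat.card (Cfsg.PSU 3 F q)).factorization 2 := by
    rw [← Nat.card_congr (MonoidHom.ofInjective hπ).toEquiv, Nat.card_congr eP.toEquiv,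
      P.card_eq_multiplicity, Subgroup.card_eq_card_quotient_mul_card_subgroup Z,
      Nat.factorization_mul (Nat.card_pos.ne') (Nat.card_pos.ne'), Finsupp.add_apply,
      Nat.factorization_eq_zero_of_not_dvd hodd, add_zero]
  exact ⟨(MonoidHom.ofInjective hπ).trans ((Sylow.ofCard _ hc).equiv S)⟩

end CfsgLib.UThreeSylow
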