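import Cfsg.Prelude
import Cfsg.Agent.Forms4.UnitaryCenter
import Cfsg.Agent.Forms.UnitaryOrder

/-!
# The unipotent subgroup of `SU₃(2ⁿ)` in coordinates
-/

set_option autoImplicit false

namespace CfsgLib.UThreeSylow

open Matrix

/-- The standing hypotheses: `F` has `q²` elements, `q = 2 ^ n`. -/
structure Good (F : Type*) [Field F] [Fintype F] (n q : ℕ) : Prop where
  q_eq : q = 2 ^ n
  n_pos : 1 ≤ n
  card_eq : Fintype.card F = q ^ 2

variable {F : Type*} [Field F] [Fintype F] {n q : ℕ}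

theorem Good.two_le (h : Good F n q) : 2 ≤ q :=
  h.q_eq ▸ Nat.le_self_pow (Nat.one_le_iff_ne_zero.1 h.n_pos) 2

theorem Good.charP (h : Good F n q) : CharP F 2 := by
  obtain ⟨m, hp, hm⟩ := FiniteField.card F (ringChar F)
  have hc : ringChar F = 2 := by
    have h1 : ringChar F ∣ 2 ^ (n * 2) := by
      rw [pow_mul, ← h.q_eq, ← h.card_eq, hm]
      exact dvd_pow_self _ m.pos.ne'
    exact (Nat.prime_dvd_prime_iff_eq hp Nat.prime_two).1 (hp.dvd_of_dvd_pow h1)
  exact ringChar.of_eq hc

theorem Good.two (h : Good F n q) : (2 : F) = 0 := by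
  haveI := h.charP
  exact_mod_cast CharP.cast_eq_zero F 2

theorem Good.add_self (h : Good F n q) (x : F) : x + x = 0 := by
  linear_combination x * h.two

theorem Good.add_pow_two_pow (h : Good F n q) (i : ℕ) (x y : F) :
    (x + y) ^ 2 ^ i = x ^ 2 ^ i + y ^ 2 ^ i := by
  haveI := h.charP
  exact add_pow_char_pow x y 2 i

theorem Good.conj_add (h : Good F n q) (x y : F) : (x + y) ^ q = x ^ q + y ^ q := by
  rw [h.q_eq]; exact h.add_pow_two_pow n x y

theorem Good.conj_conj (h : Good F n q) (x : F) : (x ^ q) ^ q = x := by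
  rw [← pow_mul, ← sq, ← h.card_eq, FiniteField.pow_card]

theorem Good.norm_fixed (h : Good F n q) (x : F) : (x ^ (q + 1)) ^ q = x ^ (q + 1) := by
  rw [pow_succ, mul_pow, h.conj_conj, mul_comm]

/-- The trace to the fixed field. -/
def trace (h : Good F n q) : F →+ F where
  toFun x := x + x ^ q
  map_zero' := by simp [zero_pow (show q ≠ 0 from by have := h.two_le; omega)]
  map_add' x y := by rw [h.conj_add]; ring

theorem mem_trace_ker (h : Good F n q) {x : F} : x ∈ (trace h).ker ↔ x ^ q = x := by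
  rw [AddMonoidHom.mem_ker]
  show x + x ^ q = 0 ↔ _
  constructor
  · intro e; linear_combination e - x * h.two
  · intro e; rw [e]; exact h.add_self x

open Polynomial in
theorem card_fixed_and_surj (h : Good F n q) :
    Nat.card (trace h).ker = q ∧ (trace h).range = (trace h).ker := by
  classical
  have hq := h.two_le
  have hle : Nat.card (trace h).ker ≤ q := by
    have hne : (X ^ q - X : F[X]) ≠ 0 := FiniteField.X_pow_card_sub_X_ne_zero F hq
    have h1 := card_le_degree_of_subset_roots (R := F) (p := X ^ q - X)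
      (Z := Finset.univ.filter fun x => x ∈ (trace h).ker) (fun x hx => by
        rw [Finset.mem_val, Finset.mem_filter] at hx
        rw [mem_roots hne, IsRoot, eval_sub, eval_pow, eval_X, sub_eq_zero]
        exact (mem_trace_ker h).1 hx.2)
    rw [FiniteField.X_pow_card_sub_X_natDegree_eq F hq] at h1
    rw [Nat.card_eq_fintype_card, Fintype.card_subtype]
    exact h1
  have hrk : (trace h).range ≤ (trace h).ker := by
    rintro _ ⟨x, rfl⟩
    rw [mem_trace_ker]
    show (x + x ^ q) ^ q = x + x ^ q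
    rw [h.conj_add, h.conj_conj, add_comm]
  have hmul : Nat.card (trace h).range * Nat.card (trace h).ker = q ^ 2 := by
    rw [← Nat.card_congr (QuotientAddGroup.quotientKerEquivRange (trace h)).toEquiv,
      ← AddSubgroup.card_eq_card_quotient_mul_card_addSubgroup, Nat.card_eq_fintype_card, h.card_eq]
  have h2 : Nat.card (trace h).range ≤ Nat.card (trace h).ker :=
    Nat.le_of_dvd Nat.card_pos (AddSubgroup.card_dvd_of_le hrk)
  have h3 : q ≤ Nat.card (trace h).ker := by
    by_contra hlt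
    have := Nat.mul_le_mul_right (Nat.card (trace h).ker) h2
    rw [hmul] at this
    have := Nat.mul_lt_mul'' (not_le.1 hlt) (not_le.1 hlt)
    rw [sq] at *
    omega
  have hk : Nat.card (trace h).ker = q := le_antisymm hle h3
  refine ⟨hk, AddSubgroup.eq_of_le_of_card_ge hrk ?_⟩
  rw [hk, sq] at hmul
  rw [hk, Nat.eq_of_mul_eq_mul_right (by omega) hmul]

theorem exists_trace (h : Good F n q) {c : F} (hc : c ^ q = c) : ∃ x : F, x + x ^ q = c := by
  have := (card_fixed_and_surj h).2.ge ((mem_trace_ker h).2 hc)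
  exact this

/-- The unipotent matrix attached to a pair `(a, b)`. -/
def uMat (q : ℕ) (a b : F) : Matrix (Fin 3) (Fin 3) F :=
  !![1 + b, b, a ^ q; b, 1 + b, a ^ q; a, a, 1]

theorem uMat_mul (h : Good F n q) (a b a' b' : F) :
    uMat q a b * uMat q a' b' = uMat q (a + a') (b + b' + a ^ q * a') := by
  have h2 := h.two
  ext i j
  fin_cases i <;> fin_cases j <;>
    simp only [uMat, Matrix.mul_apply, Fin.sum_univ_three, h.conj_add a a'] <;> simp <;> grind

omit [Fintype F] in
theorem uMat_inj {a b a' b' : F} (h : uMat q a b = uMat q a' b') : a = a' ∧ b = b' := by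
  have h1 := congrFun (congrFun h 2) 0
  have h3 := congrFun (congrFun h 0) 1
  simp [uMat] at h1 h3
  exact ⟨h1, h3⟩

theorem uMat_zero (h : Good F n q) : uMat q (0 : F) 0 = 1 := by
  ext i j
  fin_cases i <;> fin_cases j <;> simp [uMat, zero_pow (show q ≠ 0 from by have := h.two_le; omega)]

/-- The unipotent subgroup of `SU₃(q)`. -/
def uSub (h : Good F n q) : Subgroup (Cfsg.SU 3 F q) where
  carrier := {g | ∃ a b : F, b + b ^ q = a ^ (q + 1) ∧ g.1.1 = uMat q a b}
  mul_mem' := by
    rintro g g' ⟨a, b, hab, hg⟩ ⟨a', b', hab', hg'⟩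
    refine ⟨a + a', b + b' + a ^ q * a', ?_, ?_⟩
    · have e4 : (a ^ q * a') ^ q = a * a' ^ q := by rw [mul_pow, h.conj_conj]
      rw [h.conj_add, h.conj_add, e4, pow_succ (a + a'), h.conj_add]
      rw [pow_succ] at hab hab'
      linear_combination hab + hab'
    · rw [← uMat_mul h, ← hg, ← hg']
      simp
  one_mem' := ⟨0, 0, by simp [zero_pow (show q ≠ 0 from by have := h.two_le; omega)], by
    rw [uMat_zero h]; rfl⟩
  inv_mem' := by
    rintro g ⟨a, b, hab, hg⟩
    refine ⟨a, b + a ^ (q + 1), ?_, ?_⟩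
    · rw [h.conj_add, h.norm_fixed]
      linear_combination hab + a ^ (q + 1) * h.two
    · have h1 : uMat q a b * uMat q a (b + a ^ (q + 1)) = 1 := by
        rw [uMat_mul h, h.add_self, show b + (b + a ^ (q + 1)) + a ^ q * a = (0 : F) by
          rw [← pow_succ]; linear_combination (b + a ^ (q + 1)) * h.two, uMat_zero h]
      rw [← hg] at h1
      have h3 : (g⁻¹).1.1 * g.1.1 = 1 := by
        rw [← Matrix.SpecialLinearGroup.coe_mul, ← Subgroup.coe_mul, inv_mul_cancel]
        rfl
      exact left_inv_eq_right_inv h3 h1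

theorem exists_uSub (h : Good F n q) {a b : F} (hab : b + b ^ q = a ^ (q + 1)) :
    ∃ g : uSub h, g.1.1.1 = uMat q a b := by
  have h2 := h.two
  rw [pow_succ] at hab
  have hdet : (uMat q a b).det = 1 := by
    simp [uMat, Matrix.det_fin_three]
    grind
  refine ⟨⟨⟨⟨uMat q a b, hdet⟩, ?_⟩, a, b, by rw [pow_succ]; exact hab, rfl⟩, rfl⟩
  intro u v
  have hcc := h.conj_conj a
  change Cfsg.hermForm 3 F q (uMat q a b *ᵥ u) (uMat q a b *ᵥ v) = Cfsg.hermForm 3 F q u v
  simp only [Cfsg.hermForm, Matrix.mulVec, dotProduct, Fin.sum_univ_three]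
  simp [uMat, h.conj_add, mul_pow, hcc]
  grind

variable {h : Good F n q}

/-- First coordinate. -/
def cA (g : uSub h) : F := g.1.1.1 2 0

/-- Second coordinate. -/
def cB (g : uSub h) : F := g.1.1.1 0 1

theorem coords_spec (g : uSub h) :
    cB g + cB g ^ q = cA g ^ (q + 1) ∧ g.1.1.1 = uMat q (cA g) (cB g) := by
  obtain ⟨a, b, hab, hg⟩ := g.2
  have ha : cA g = a := by simp [cA, hg, uMat]
  have hb : cB g = b := by simp [cB, hg, uMat]
  rw [ha, hb]; exact ⟨hab, hg⟩

theorem coords_ext {g g' : uSub h} (ha : cA g = cA g') (hb : cB g = cB g') : g = g' := by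
  refine Subtype.ext (Subtype.ext (Subtype.ext ?_))
  rw [(coords_spec g).2, (coords_spec g').2, ha, hb]

theorem coords_mul (g g' : uSub h) :
    cA (g * g') = cA g + cA g' ∧ cB (g * g') = cB g + cB g' + cA g ^ q * cA g' := by
  refine uMat_inj (q := q) ?_
  rw [← uMat_mul h, ← (coords_spec g).2, ← (coords_spec g').2, ← (coords_spec (g * g')).2]
  rfl

theorem coords_one : cA (1 : uSub h) = 0 ∧ cB (1 : uSub h) = 0 := by
  simp [cA, cB]

theorem coords_sq (g : uSub h) : cA (g * g) = 0 ∧ cB (g * g) = cA g ^ (q + 1) := by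
  rw [(coords_mul g g).1, (coords_mul g g).2, h.add_self, h.add_self, zero_add, pow_succ]
  exact ⟨rfl, rfl⟩

theorem exists_coords (h : Good F n q) {a b : F} (hab : b + b ^ q = a ^ (q + 1)) :
    ∃ g : uSub h, cA g = a ∧ cB g = b := by
  obtain ⟨g, hg⟩ := exists_uSub h hab
  exact ⟨g, uMat_inj ((coords_spec g).2.symm.trans hg)⟩

/-- The element `(0, z)`, for `z` in the fixed field. -/
noncomputable def zEl (h : Good F n q) (z : (trace h).ker) : uSub h :=
  (exists_coords h (a := 0) (b := z.1) (by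
    rw [(mem_trace_ker h).1 z.2, h.add_self, zero_pow (Nat.succ_ne_zero q)])).choose

theorem zEl_spec (z : (trace h).ker) : cA (zEl h z) = 0 ∧ cB (zEl h z) = z.1 :=
  (exists_coords h (a := 0) (b := z.1) (by
    rw [(mem_trace_ker h).1 z.2, h.add_self, zero_pow (Nat.succ_ne_zero q)])).choose_spec

theorem zEl_add (z z' : (trace h).ker) : zEl h (z + z') = zEl h z * zEl h z' := by
  refine coords_ext ?_ ?_
  · rw [(coords_mul _ _).1, (zEl_spec z).1, (zEl_spec z').1, (zEl_spec _).1, add_zero]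
  · rw [(coords_mul _ _).2, (zEl_spec z).1, (zEl_spec z).2, (zEl_spec z').2, (zEl_spec _).2,
      (zEl_spec z').1, mul_zero, add_zero]
    rfl

theorem zEl_cB {g : uSub h} (hg : cA g = 0) :
    ∃ hz : cB g ∈ (trace h).ker, zEl h ⟨cB g, hz⟩ = g := by
  have hz : cB g ∈ (trace h).ker := by
    rw [AddMonoidHom.mem_ker]
    show cB g + cB g ^ q = 0
    rw [(coords_spec g).1, hg, zero_pow (Nat.succ_ne_zero q)]
  exact ⟨hz, coords_ext ((zEl_spec _).1.trans hg.symm) (zEl_spec _).2⟩

theorem zEl_comm (z : (trace h).ker) (g : uSub h) : zEl h z * g = g * zEl h z := by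
  have hq : (0 : F) ^ q = 0 := zero_pow (by have := h.two_le; omega)
  refine coords_ext ?_ ?_
  · rw [(coords_mul _ _).1, (coords_mul _ _).1, add_comm]
  · rw [(coords_mul _ _).2, (coords_mul _ _).2, (zEl_spec z).1, hq]
    ring

/-- A chosen element with given first coordinate. -/
noncomputable def gA (h : Good F n q) (a : F) : uSub h :=
  (exists_coords h (exists_trace h (h.norm_fixed a)).choose_spec).choose

theorem cA_gA (a : F) : cA (gA h a) = a :=
  (exists_coords h (exists_trace h (h.norm_fixed a)).choose_spec).choose_spec.1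

theorem exists_eq_gA_mul (g : uSub h) : ∃ z : (trace h).ker, g = gA h (cA g) * zEl h z := by
  have h0 : cA ((gA h (cA g))⁻¹ * g) = 0 := by
    have h1 := (coords_mul (gA h (cA g)) ((gA h (cA g))⁻¹ * g)).1
    rw [mul_inv_cancel_left, cA_gA] at h1
    linear_combination -h1
  obtain ⟨hz, he⟩ := zEl_cB h0
  exact ⟨⟨_, hz⟩, by rw [he, mul_inv_cancel_left]⟩

theorem card_uSub (h : Good F n q) : Nat.card (uSub h) = q ^ 3 := by
  have hbij : Function.Bijective fun p : F × (trace h).ker => gA h p.1 * zEl h p.2 := by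
    constructor
    · rintro ⟨a, z⟩ ⟨a', z'⟩ e
      have h1 := congrArg cA e
      simp only [(coords_mul (gA h _) _).1, cA_gA, (zEl_spec _).1, add_zero] at h1
      subst h1
      have h3 := congrArg cB (mul_left_cancel e)
      rw [(zEl_spec z).2, (zEl_spec z').2] at h3
      rw [Subtype.ext h3]
    · intro g
      obtain ⟨z, hz⟩ := exists_eq_gA_mul g
      exact ⟨(cA g, z), hz.symm⟩
  rw [← Nat.card_congr (Equiv.ofBijective _ hbij), Nat.card_prod, (card_fixed_and_surj h).1,
    Nat.card_eq_fintype_card, h.card_eq, ← pow_succ]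

/-- Sylow 2-subgroups of `SU₃(q)`, `q` even, are isomorphic to `uSub`. -/
theorem nonempty_equiv_sylow (h : Good F n q) (P : Sylow 2 (Cfsg.SU 3 F q)) :
    Nonempty (uSub h ≃* (P : Subgroup (Cfsg.SU 3 F q))) := by
  haveI : Fact (Nat.Prime 2) := ⟨Nat.prime_two⟩
  have hq := h.two_le
  have hSU : Nat.card (Cfsg.SU 3 F q) = q ^ 3 * ((q ^ 2 - 1) * (q ^ 3 + 1)) := by
    have h1 := CfsgLib.Forms4.card_SU_mul_GU h.card_eq (n := 3) (by norm_num)
    rw [CfsgLib.Forms.card_GU h.card_eq] at h1
    simp [Finset.sum_range_succ, Finset.prod_range_succ, CfsgLib.Forms.u] at h1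
    rw [if_neg (by decide)] at h1
    apply Nat.eq_of_mul_eq_mul_left (show 0 < q + 1 by omega)
    rw [h1]
    ring
  have hev : q % 2 = 0 := by
    rw [h.q_eq]; exact Nat.even_iff.1 ((Nat.even_pow).2 ⟨even_two, Nat.one_le_iff_ne_zero.1 h.n_pos⟩)
  have hodd : ¬ 2 ∣ (q ^ 2 - 1) * (q ^ 3 + 1) := by
    have h1 : 1 ≤ q ^ 2 := Nat.one_le_pow _ _ (by omega)
    have e2 : q ^ 2 % 2 = 0 := by rw [Nat.pow_mod, hev]
    have e3 : q ^ 3 % 2 = 0 := by rw [Nat.pow_mod, hev]
    rw [Nat.prime_two.dvd_mul]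
    omega
  have hc : Nat.card (uSub h) = 2 ^ (Nat.card (Cfsg.SU 3 F q)).factorization 2 := by
    have hq2 : 1 < q ^ 2 := Nat.one_lt_pow (by norm_num) (by omega)
    rw [card_uSub, hSU, Nat.factorization_mul (pow_ne_zero _ (by omega))
      (mul_ne_zero (by omega) (Nat.succ_ne_zero _)), Finsupp.add_apply,
      Nat.factorization_eq_zero_of_not_dvd hodd, h.q_eq, ← pow_mul,
      Nat.factorization_pow_self Nat.prime_two, add_zero]
  exact ⟨(Sylow.ofCard _ hc).equiv P⟩

end CfsgLib.UThreeSylow
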