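import Cfsg.Agent.UThreeSylow.Semilinear
import Cfsg.Agent.PLocal.Cores

/-!
# The automorphism group of the Sylow 2-subgroup of `SU₃(2ⁿ)`
-/

set_option autoImplicit false

namespace CfsgLib.UThreeSylow

variable {F : Type*} [Field F] [Fintype F] {n q : ℕ} {h : Good F n q}

theorem cA_map_zero (f : MulAut (uSub h)) {g : uSub h} (hg : cA g = 0) : cA (f g) = 0 := by
  have h1 : g * g = 1 := coords_ext (by rw [(coords_sq g).1, coords_one.1])
    (by rw [(coords_sq g).2, coords_one.2, hg, zero_pow (Nat.succ_ne_zero q)])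
  have h2 := congrArg f h1
  rw [map_mul, map_one] at h2
  have h3 := (coords_sq (f g)).2
  rw [h2, coords_one.2] at h3
  exact eq_zero_of_pow_eq_zero h3.symm

theorem cA_map_congr (f : MulAut (uSub h)) {g g' : uSub h} (e : cA g = cA g') :
    cA (f g) = cA (f g') := by
  have hA : cA (g'⁻¹ * g) = 0 := by
    have h1 := (coords_mul g' (g'⁻¹ * g)).1
    rw [mul_inv_cancel_left, e] at h1
    linear_combination -h1
  have h1 := (coords_mul (f g') (f (g'⁻¹ * g))).1
  rw [← map_mul, mul_inv_cancel_left, cA_map_zero f hA, add_zero] at h1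
  exact h1

/-- The map induced on first coordinates. -/
noncomputable def actA (f : MulAut (uSub h)) (a : F) : F := cA (f (gA h a))

theorem actA_cA (f : MulAut (uSub h)) (g : uSub h) : actA f (cA g) = cA (f g) :=
  cA_map_congr f (cA_gA _)

theorem actA_mul (f f' : MulAut (uSub h)) (a : F) : actA (f * f') a = actA f (actA f' a) :=
  (actA_cA f (f' (gA h a))).symm

theorem actA_one (a : F) : actA (1 : MulAut (uSub h)) a = a := cA_gA a

theorem actA_add (f : MulAut (uSub h)) (a b : F) : actA f (a + b) = actA f a + actA f b := by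
  have h1 : cA (gA h a * gA h b) = a + b := by rw [(coords_mul _ _).1, cA_gA, cA_gA]
  rw [← h1, actA_cA, map_mul, (coords_mul _ _).1]
  rfl

/-- The action on first coordinates. -/
noncomputable def actHom (h : Good F n q) : MulAut (uSub h) →* Equiv.Perm F where
  toFun f :=
    { toFun := actA f
      invFun := actA f⁻¹
      left_inv := fun a => by rw [← actA_mul, inv_mul_cancel, actA_one]
      right_inv := fun a => by rw [← actA_mul, mul_inv_cancel, actA_one] }
  map_one' := Equiv.ext actA_one
  map_mul' f f' := Equiv.ext (actA_mul f f')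

theorem actHom_apply (f : MulAut (uSub h)) (a : F) : actHom h f a = actA f a := rfl

open Classical in
/-- The map induced on the centre. -/
noncomputable def actB (f : MulAut (uSub h)) (z : F) : F :=
  if hz : z ∈ (trace h).ker then cB (f (zEl h ⟨z, hz⟩)) else 0

theorem actB_cB (f : MulAut (uSub h)) {g : uSub h} (hg : cA g = 0) :
    actB f (cB g) = cB (f g) := by
  obtain ⟨hz, he⟩ := zEl_cB hg
  rw [actB, dif_pos hz, he]

theorem actB_norm (f : MulAut (uSub h)) (a : F) :
    actA f a ^ (q + 1) = actB f (a ^ (q + 1)) := by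
  conv_rhs => rw [← cA_gA (h := h) a, ← (coords_sq (gA h a)).2]
  rw [actB_cB f (coords_sq _).1, map_mul, (coords_sq (f _)).2]
  rfl

theorem actB_add (f : MulAut (uSub h)) {a b : F} (ha : a ^ q = a) (hb : b ^ q = b) :
    actB f (a + b) = actB f a + actB f b := by
  have hma := (mem_trace_ker h).2 ha
  have hmb := (mem_trace_ker h).2 hb
  have e := zEl_add (h := h) ⟨a, hma⟩ ⟨b, hmb⟩
  have hab : cB (zEl h (⟨a, hma⟩ + ⟨b, hmb⟩)) = a + b := (zEl_spec _).2
  rw [← hab, actB_cB f (zEl_spec _).1, e, map_mul, (coords_mul _ _).2,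
    cA_map_zero f (zEl_spec _).1, zero_pow (show q ≠ 0 from by have := h.two_le; omega),
    ← actB_cB f (zEl_spec _).1, ← actB_cB f (zEl_spec _).1, (zEl_spec _).2, (zEl_spec _).2]
  ring

theorem exists_semilinear_act (f : MulAut (uSub h)) :
    ∃ c : F, c ≠ 0 ∧ ∃ i, i < 2 * n ∧ ∀ a, actA f a = c * a ^ 2 ^ i :=
  exists_semilinear h (actA f) (actB f) (actHom h f).injective (actA_add f)
    (fun _ _ ha hb => actB_add f ha hb) (actB_norm f)

theorem exists_aut (h : Good F n q) {c : F} (hc : c ≠ 0) (i : ℕ) :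
    ∃ f : MulAut (uSub h), ∀ a, actA f a = c * a ^ 2 ^ i := by
  classical
  have hex : ∀ g : uSub h, ∃ g' : uSub h,
      cA g' = c * cA g ^ 2 ^ i ∧ cB g' = c ^ (q + 1) * cB g ^ 2 ^ i := by
    intro g
    refine exists_coords h ?_
    rw [mul_pow, h.norm_fixed, ← pow_mul (cB g), mul_comm (2 ^ i) q, pow_mul, ← mul_add,
      ← h.add_pow_two_pow, (coords_spec g).1, mul_pow, ← pow_mul, mul_comm (q + 1), pow_mul]
  choose Φ hΦ using hex
  let Φ' : uSub h →* uSub h :=
    { toFun := Φ
      map_one' := coords_ext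
        (by rw [(hΦ 1).1, coords_one.1, zero_pow (pow_ne_zero _ two_ne_zero), mul_zero])
        (by rw [(hΦ 1).2, coords_one.2, zero_pow (pow_ne_zero _ two_ne_zero), mul_zero])
      map_mul' := fun g g' => coords_ext
        (by rw [(hΦ _).1, (coords_mul _ _).1, (coords_mul _ _).1, (hΦ g).1, (hΦ g').1,
          h.add_pow_two_pow, mul_add])
        (by
          rw [(hΦ _).2, (coords_mul _ _).2, (coords_mul _ _).2, (hΦ g).2, (hΦ g').2, (hΦ g).1,
            (hΦ g').1, h.add_pow_two_pow, h.add_pow_two_pow, mul_pow, mul_pow, ← pow_mul, ← pow_mul,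
            mul_comm (2 ^ i) q, pow_succ c q]
          ring) }
  have hinj : Function.Injective Φ' := by
    intro g g' e
    have hp : ∀ x y : F, x ^ 2 ^ i = y ^ 2 ^ i → x = y := fun x y e => by
      have h1 := h.add_pow_two_pow i x y
      rw [e, h.add_self] at h1
      have h2 := eq_zero_of_pow_eq_zero h1
      linear_combination h2 - y * h.two
    have eA : cA (Φ g) = cA (Φ g') := congrArg cA e
    have eB : cB (Φ g) = cB (Φ g') := congrArg cB e
    rw [(hΦ g).1, (hΦ g').1] at eA
    rw [(hΦ g).2, (hΦ g').2] at eB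
    exact coords_ext (hp _ _ (mul_left_cancel₀ hc eA))
      (hp _ _ (mul_left_cancel₀ (pow_ne_zero _ hc) eB))
  refine ⟨MulEquiv.ofBijective Φ' (Finite.injective_iff_bijective.1 hinj), fun a => ?_⟩
  show cA (Φ (gA h a)) = _
  rw [(hΦ _).1, cA_gA]

/-- Central automorphisms. -/
noncomputable def central (h : Good F n q) :
    Multiplicative (F →+ (trace h).ker) →* MulAut (uSub h) where
  toFun φ :=
    { toFun := fun g => g * zEl h (φ.toAdd (cA g))
      invFun := fun g => g * zEl h (φ.toAdd (cA g))
      left_inv := fun g => by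
        dsimp only
        rw [mul_assoc, ← zEl_add, (coords_mul _ _).1, (zEl_spec _).1, add_zero,
          show φ.toAdd (cA g) + φ.toAdd (cA g) = 0 from Subtype.ext (h.add_self _)]
        exact mul_eq_left.2 (coords_ext ((zEl_spec _).1.trans coords_one.1.symm)
          ((zEl_spec _).2.trans coords_one.2.symm))
      right_inv := fun g => by
        dsimp only
        rw [mul_assoc, ← zEl_add, (coords_mul _ _).1, (zEl_spec _).1, add_zero,
          show φ.toAdd (cA g) + φ.toAdd (cA g) = 0 from Subtype.ext (h.add_self _)]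
        exact mul_eq_left.2 (coords_ext ((zEl_spec _).1.trans coords_one.1.symm)
          ((zEl_spec _).2.trans coords_one.2.symm))
      map_mul' := fun g g' => by
        rw [(coords_mul g g').1, map_add, zEl_add, mul_assoc, mul_assoc, ← mul_assoc g',
          ← zEl_comm _ g', mul_assoc] }
  map_one' := MulEquiv.ext fun g => by
    show g * zEl h ((0 : F →+ (trace h).ker) (cA g)) = g
    exact mul_eq_left.2 (coords_ext ((zEl_spec _).1.trans coords_one.1.symm)
      ((zEl_spec _).2.trans coords_one.2.symm))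
  map_mul' φ ψ := MulEquiv.ext fun g => by
    show g * zEl h ((φ.toAdd + ψ.toAdd) (cA g)) =
      g * zEl h (ψ.toAdd (cA g)) * zEl h (φ.toAdd (cA (g * zEl h (ψ.toAdd (cA g)))))
    rw [(coords_mul g _).1, (zEl_spec _).1, add_zero, AddMonoidHom.add_apply, mul_assoc, ← zEl_add,
      add_comm]

theorem zEl_injective : Function.Injective (zEl h) := fun z z' e =>
  Subtype.ext (by rw [← (zEl_spec z).2, e, (zEl_spec z').2])

theorem central_injective (h : Good F n q) : Function.Injective (central h) := by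
  intro φ ψ e
  refine Multiplicative.toAdd.injective (AddMonoidHom.ext fun a => zEl_injective (h := h) ?_)
  have e1 : gA h a * zEl h (φ.toAdd (cA (gA h a))) = gA h a * zEl h (ψ.toAdd (cA (gA h a))) :=
    DFunLike.congr_fun e (gA h a)
  rw [cA_gA] at e1
  exact mul_left_cancel e1

theorem range_central (h : Good F n q) : (central h).range = (actHom h).ker := by
  refine le_antisymm ?_ fun f hf => ?_
  · rintro _ ⟨φ, rfl⟩
    rw [MonoidHom.mem_ker]
    refine Equiv.ext fun a => ?_
    show cA (gA h a * zEl h (φ.toAdd (cA (gA h a)))) = a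
    rw [(coords_mul _ _).1, (zEl_spec _).1, cA_gA, add_zero]
  · have hA : ∀ g, cA (f g) = cA g := fun g => by
      rw [← actA_cA f g]
      exact DFunLike.congr_fun (MonoidHom.mem_ker.1 hf) (cA g)
    have hZ : ∀ z : (trace h).ker, f (zEl h z) = zEl h z := by
      intro z
      refine coords_ext (hA _) ?_
      set k := z.1 ^ 2 ^ (2 * n - 1) with hk
      have hkK : k ^ q = k := by rw [hk, ← pow_mul, mul_comm, pow_mul, (mem_trace_ker h).1 z.2]
      have hk2 : k ^ (q + 1) = z.1 := by
        rw [pow_succ, hkK, ← sq, hk, ← pow_mul, ← pow_succ,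
          Nat.sub_add_cancel (by have := h.n_pos; omega)]
        exact pow_two_pow_card h z.1
      have e : zEl h z = gA h k * gA h k := coords_ext
        ((zEl_spec z).1.trans (coords_sq _).1.symm)
        ((zEl_spec z).2.trans (by rw [(coords_sq _).2, cA_gA, hk2]))
      rw [(zEl_spec z).2, e, map_mul, (coords_sq _).2, hA, cA_gA, hk2]
    have hd : ∀ g : uSub h, ∃ z : (trace h).ker, f g = g * zEl h z := by
      intro g
      have h0 : cA (g⁻¹ * f g) = 0 := by
        have h1 := (coords_mul g (g⁻¹ * f g)).1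
        rw [mul_inv_cancel_left, hA] at h1
        linear_combination -h1
      obtain ⟨hz, he⟩ := zEl_cB h0
      exact ⟨⟨_, hz⟩, by rw [he, mul_inv_cancel_left]⟩
    choose δ hδ using hd
    have hδA : ∀ g g', cA g = cA g' → δ g = δ g' := by
      intro g g' e
      obtain ⟨z, hz⟩ := exists_eq_gA_mul g
      obtain ⟨z', hz'⟩ := exists_eq_gA_mul g'
      have key : ∀ (a : F) (w : (trace h).ker), δ (gA h a * zEl h w) = δ (gA h a) := by
        intro a w
        refine zEl_injective (h := h) (mul_left_cancel (a := gA h a * zEl h w) ?_)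
        rw [← hδ, map_mul, hZ, hδ (gA h a), mul_assoc, zEl_comm, mul_assoc]
      rw [hz, hz', key, key, e]
    let φ : F →+ (trace h).ker := AddMonoidHom.mk' (fun a => δ (gA h a)) fun a b => by
      refine zEl_injective (h := h) ?_
      rw [zEl_add]
      have e : δ (gA h (a + b)) = δ (gA h a * gA h b) :=
        hδA _ _ (by rw [cA_gA, (coords_mul _ _).1, cA_gA, cA_gA])
      rw [e]
      refine mul_left_cancel (a := gA h a * gA h b) ?_
      rw [← hδ, map_mul, hδ, hδ, mul_assoc, mul_assoc, ← mul_assoc (zEl h _) (gA h b), zEl_comm,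
        mul_assoc (gA h b)]
    refine ⟨Multiplicative.ofAdd φ, MulEquiv.ext fun g => ?_⟩
    show g * zEl h (δ (gA h (cA g))) = f g
    rw [hδ g, hδA g (gA h (cA g)) (cA_gA _).symm]

theorem card_centralHom (h : Good F n q) :
    Nat.card (Multiplicative (F →+ (trace h).ker)) = 2 ^ (2 * n ^ 2) := by
  haveI : Fact (Nat.Prime 2) := ⟨Nat.prime_two⟩
  haveI := h.charP
  letI : Module (ZMod 2) F := (ZMod.algebra F 2).toModule
  letI : Module (ZMod 2) (trace h).ker := AddCommGroup.zmodModule fun x => by
    rw [two_nsmul]; exact Subtype.ext (h.add_self _)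
  let e : (F →+ (trace h).ker) ≃ (F →ₗ[ZMod 2] (trace h).ker) :=
    { toFun := fun φ => φ.toZModLinearMap 2
      invFun := fun l => l.toAddMonoidHom
      left_inv := fun φ => rfl
      right_inv := fun l => rfl }
  let b := Module.finBasis (ZMod 2) F
  have hr : Nat.card F = 2 ^ Module.finrank (ZMod 2) F := by
    rw [Module.natCard_eq_pow_finrank (K := ZMod 2), Nat.card_zmod]
  rw [Nat.card_eq_fintype_card, h.card_eq, h.q_eq, ← pow_mul] at hr
  rw [Nat.card_congr Multiplicative.toAdd, Nat.card_congr e,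
    Nat.card_congr (b.constr (S := ZMod 2) (M' := (trace h).ker)).symm.toEquiv, Nat.card_fun,
    Nat.card_fin, (card_fixed_and_surj h).1, h.q_eq, ← pow_mul,
    ← Nat.pow_right_injective le_rfl hr]
  ring_nf

theorem frob_inj (h : Good F n q) {i j : ℕ} (hi : i < 2 * n) (hj : j < 2 * n)
    (hall : ∀ a : F, a ^ 2 ^ i = a ^ 2 ^ j) : i = j := by
  by_contra hne
  obtain ⟨g, hg⟩ := IsCyclic.exists_generator (α := Fˣ)
  have ho : orderOf g = q ^ 2 - 1 := by
    rw [orderOf_eq_card_of_forall_mem_zpowers hg, Nat.card_units, Nat.card_eq_fintype_card,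
      h.card_eq]
  have key : ∀ i j : ℕ, i < j → j < 2 * n → (∀ a : F, a ^ 2 ^ i = a ^ 2 ^ j) → False := by
    intro i j hij hj hall
    have h1 : (g : F) ^ 2 ^ (2 * n - (j - i)) = (g : F) := by
      have h2 := congrArg (fun x : F => x ^ 2 ^ (2 * n - j)) (hall g)
      simp only [← pow_mul, ← pow_add] at h2
      rw [show j + (2 * n - j) = 2 * n by omega, pow_two_pow_card h] at h2
      rw [show 2 * n - (j - i) = i + (2 * n - j) by omega]
      exact h2
    set d := 2 * n - (j - i) with hd
    have h3 : g ^ (2 ^ d - 1) = 1 := by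
      have h4 : g ^ 2 ^ d = g := Units.ext (by simpa using h1)
      rw [show (2 : ℕ) ^ d = 2 ^ d - 1 + 1 from
        (Nat.sub_add_cancel Nat.one_le_two_pow).symm, pow_succ, mul_eq_right] at h4
      exact h4
    have h5 := Nat.le_of_dvd (by
      have : 1 < 2 ^ d := Nat.one_lt_two_pow (by omega)
      omega) (orderOf_dvd_of_pow_eq_one h3)
    rw [ho, h.q_eq, ← pow_mul] at h5
    have h6 : 2 ^ d < 2 ^ (n * 2) := Nat.pow_lt_pow_right (by norm_num) (by omega)
    have := Nat.one_le_two_pow (n := d)
    omega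
  rcases lt_or_gt_of_ne hne with hlt | hlt
  · exact key _ _ hlt hj hall
  · exact key _ _ hlt hi fun a => (hall a).symm

theorem card_range_actHom (h : Good F n q) :
    Nat.card (actHom h).range = 2 * n * (q ^ 2 - 1) := by
  classical
  have hu : ∀ p : Fˣ × Fin (2 * n), ∃ f : MulAut (uSub h), ∀ a, actA f a = p.1 * a ^ 2 ^ (p.2 : ℕ) :=
    fun p => exists_aut h p.1.ne_zero p.2
  choose f hf using hu
  have hbij : Function.Bijective fun p => (⟨actHom h (f p), f p, rfl⟩ : (actHom h).range) := by
    constructor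
    · intro p p' e
      have e' : ∀ a, actA (f p) a = actA (f p') a := fun a =>
        DFunLike.congr_fun (congrArg Subtype.val e) a
      simp only [hf] at e'
      have hc : p.1 = p'.1 := Units.ext (by simpa using e' 1)
      refine Prod.ext hc (Fin.ext ?_)
      refine frob_inj h p.2.2 p'.2.2 fun a => ?_
      have := e' a
      rw [hc] at this
      exact mul_left_cancel₀ p'.1.ne_zero this
    · rintro ⟨_, f₀, rfl⟩
      obtain ⟨c, hc, i, hi, hf₀⟩ := exists_semilinear_act f₀
      refine ⟨(Units.mk0 c hc, ⟨i, hi⟩), Subtype.ext (Equiv.ext fun a => ?_)⟩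
      show actA (f _) a = actA f₀ a
      rw [hf, hf₀]
      rfl
  rw [← Nat.card_congr (Equiv.ofBijective _ hbij), Nat.card_prod, Nat.card_units,
    Nat.card_eq_fintype_card, h.card_eq, Nat.card_fin, mul_comm]

theorem card_ker_actHom (h : Good F n q) : Nat.card (actHom h).ker = 2 ^ (2 * n ^ 2) := by
  rw [← range_central h, ← Nat.card_congr (MonoidHom.ofInjective (central_injective h)).toEquiv,
    card_centralHom]

theorem card_aut (h : Good F n q) :
    Nat.card (MulAut (uSub h)) = 2 ^ (2 * n ^ 2) * (2 * n * (q ^ 2 - 1)) := by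
  rw [← card_range_actHom h, ← card_ker_actHom h, ← Subgroup.index_ker, Subgroup.card_mul_index]

theorem pCore_aut (h : Good F n q) : Cfsg.pCore 2 (MulAut (uSub h)) = (actHom h).ker := by
  classical
  haveI : Fact (Nat.Prime 2) := ⟨Nat.prime_two⟩
  refine le_antisymm ?_ (PLocal.le_pCore (IsPGroup.of_card (card_ker_actHom h)))
  intro f hf
  rw [MonoidHom.mem_ker]
  set P := Cfsg.pCore 2 (MulAut (uSub h)) with hP
  have hPn : P.Normal := inferInstance
  have hp : IsPGroup 2 P := PLocal.isPGroup_pCore 2 _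
  have hscal : ∀ f' ∈ P, ∀ d : F, (∀ a, actA f' a = d * a) → d = 1 := by
    intro f' hf' d hd
    obtain ⟨j, hj⟩ := hp ⟨f', hf'⟩
    have hj' : f' ^ 2 ^ j = 1 := congrArg Subtype.val hj
    have hit : ∀ (m : ℕ) (a : F), actA (f' ^ m) a = d ^ m * a := by
      intro m
      induction m with
      | zero => intro a; rw [pow_zero, pow_zero, actA_one, one_mul]
      | succ m ih => intro a; rw [pow_succ', actA_mul, ih, hd, pow_succ']; ring
    have h1 := hit (2 ^ j) 1
    rw [hj', actA_one, mul_one] at h1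
    have h2 := h.add_pow_two_pow j d 1
    rw [one_pow, ← h1, h.add_self] at h2
    have h3 := eq_zero_of_pow_eq_zero h2
    linear_combination h3 - h.two
  obtain ⟨c, hc, i, hi, hfi⟩ := exists_semilinear_act f
  have hfix : ∀ d : F, d ≠ 0 → d ^ 2 ^ i = d := by
    intro d hd
    obtain ⟨m, hm⟩ := exists_aut h hd 0
    have hmi : ∀ a, actA m⁻¹ a = d⁻¹ * a := fun a => by
      have h1 := hm (actA m⁻¹ a)
      rw [← actA_mul, mul_inv_cancel, actA_one, pow_zero, pow_one] at h1
      rw [h1, inv_mul_cancel_left₀ hd]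
      simp [← h1]
    have hmem : f * m * f⁻¹ * m⁻¹ ∈ P := by
      rw [mul_assoc, mul_assoc]
      exact mul_mem hf (by rw [← mul_assoc]; exact hPn.conj_mem _ (inv_mem hf) m)
    have h1 := hscal _ hmem (d ^ 2 ^ i * d⁻¹) fun a => by
      set a' := d⁻¹ * a with ha'
      have h2 : actA f (actA f⁻¹ a') = a' := by rw [← actA_mul, mul_inv_cancel, actA_one]
      rw [hfi] at h2
      rw [actA_mul, actA_mul, actA_mul, hmi, ← ha', hm, pow_zero, pow_one, hfi, mul_pow,
        mul_left_comm c, h2, ha']
      ring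
    rw [← div_eq_mul_inv, div_eq_one_iff_eq hd] at h1
    exact h1
  have hfi' : ∀ a, actA f a = c * a := fun a => by
    rw [hfi]
    rcases eq_or_ne a 0 with rfl | ha
    · rw [zero_pow (pow_ne_zero _ two_ne_zero)]
    · rw [hfix a ha]
  have hc1 := hscal f hf c hfi'
  refine Equiv.ext fun a => ?_
  rw [actHom_apply, hfi', hc1, one_mul]
  rfl

theorem pCore_aut_elementary (h : Good F n q) :
    Cfsg.IsElementaryAbelian 2 (Cfsg.pCore 2 (MulAut (uSub h))) := by
  rw [pCore_aut, ← range_central]
  refine ⟨⟨⟨?_⟩⟩, ?_⟩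
  · rintro ⟨_, φ, rfl⟩ ⟨_, ψ, rfl⟩
    refine Subtype.ext ?_
    show central h φ * central h ψ = central h ψ * central h φ
    rw [← map_mul, ← map_mul, mul_comm]
  · rintro _ ⟨φ, rfl⟩
    rw [← map_pow, sq]
    have : φ * φ = 1 := Multiplicative.toAdd.injective
      (AddMonoidHom.ext fun a => Subtype.ext (h.add_self _))
    rw [this, map_one]

end CfsgLib.UThreeSylow
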