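import Cfsg.Agent.UThreeSylow.Basic

/-!
# Additive maps respecting the norm are semilinear
-/

set_option autoImplicit false

namespace CfsgLib.UThreeSylow

variable {F : Type*} [Field F] [Fintype F] {n q : ℕ}

/-- The fixed field of the conjugation. -/
def fixedField (h : Good F n q) : Subfield F where
  carrier := {x | x ^ q = x}
  mul_mem' := fun {a b} ha hb => by show (a * b) ^ q = a * b; rw [mul_pow, ha, hb]
  one_mem' := one_pow q
  add_mem' := fun {a b} ha hb => by show (a + b) ^ q = a + b; rw [h.conj_add, ha, hb]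
  zero_mem' := zero_pow (by have := h.two_le; omega)
  neg_mem' := fun {a} ha => by
    show (-a) ^ q = -a
    rw [show -a = a by linear_combination -a * h.two]
    exact ha
  inv_mem' := fun a ha => by show (a⁻¹) ^ q = a⁻¹; rw [inv_pow, ha]

theorem mem_fixedField (h : Good F n q) {x : F} : x ∈ fixedField h ↔ x ^ q = x := Iff.rfl

theorem card_fixedField (h : Good F n q) : Nat.card (fixedField h) = q := by
  exact (Nat.card_congr (Equiv.subtypeEquivRight fun x => (mem_trace_ker h).symm)).trans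
    (card_fixed_and_surj h).1

/-- Endomorphisms of the fixed field are powers of the Frobenius. -/
theorem exists_pow_of_ringHom (h : Good F n q) (τ : fixedField h →+* fixedField h) :
    ∃ i, i < n ∧ ∀ x : fixedField h, τ x = x ^ 2 ^ i := by
  haveI : Fact (Nat.Prime 2) := ⟨Nat.prime_two⟩
  haveI := h.charP
  haveI : CharP (fixedField h) 2 := (fixedField h).subtype.charP Subtype.val_injective 2
  letI := ZMod.algebra (fixedField h) 2
  haveI : Finite (fixedField h) := Finite.of_injective _ Subtype.val_injective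
  have hcomm : ∀ r : ZMod 2, τ (algebraMap (ZMod 2) (fixedField h) r) =
      algebraMap (ZMod 2) (fixedField h) r := fun r => DFunLike.congr_fun
    (RingHom.ext_zmod (τ.comp (algebraMap (ZMod 2) (fixedField h)))
      (algebraMap (ZMod 2) (fixedField h))) r
  let τ' : fixedField h →ₐ[ZMod 2] fixedField h := { τ with commutes' := hcomm }
  obtain ⟨i, hi⟩ := (FiniteField.bijective_frobeniusAlgHom_pow (ZMod 2) (fixedField h)).2 τ'
  refine ⟨i.1, ?_, fun x => ?_⟩
  · have hc : Nat.card (fixedField h) = 2 ^ Module.finrank (ZMod 2) (fixedField h) := by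
      rw [Module.natCard_eq_pow_finrank (K := ZMod 2), Nat.card_zmod]
    have hc' : 2 ^ n = 2 ^ Module.finrank (ZMod 2) (fixedField h) :=
      h.q_eq.symm.trans ((card_fixedField h).symm.trans hc)
    exact i.2.trans_eq (Nat.pow_right_injective le_rfl hc').symm
  · have := DFunLike.congr_fun hi x
    rw [AlgHom.coe_pow, FiniteField.coe_frobeniusAlgHom, pow_iterate, ZMod.card] at this
    exact this.symm

theorem pow_two_pow_card (h : Good F n q) (x : F) : x ^ 2 ^ (2 * n) = x := by
  rw [mul_comm, pow_mul, ← h.q_eq, ← h.card_eq, FiniteField.pow_card]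

/-- An additive injection compatible with the norm is semilinear. -/
theorem exists_semilinear (h : Good F n q) (A β : F → F) (hinj : Function.Injective A)
    (hadd : ∀ a b, A (a + b) = A a + A b)
    (hβadd : ∀ a b : F, a ^ q = a → b ^ q = b → β (a + b) = β a + β b)
    (hN : ∀ a, A a ^ (q + 1) = β (a ^ (q + 1))) :
    ∃ c : F, c ≠ 0 ∧ ∃ i, i < 2 * n ∧ ∀ a, A a = c * a ^ 2 ^ i := by
  classical
  have hq := h.two_le
  have hA0 : A 0 = 0 := by
    have e := hadd 0 0
    rw [add_zero, left_eq_add] at e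
    exact e
  have hq0 : (0 : F) ^ q = 0 := zero_pow (by omega)
  have hβ0 : β 0 = 0 := by
    have e := hN 0
    rw [hA0, zero_pow (Nat.succ_ne_zero q)] at e
    exact e.symm
  have hAne : ∀ {a}, a ≠ 0 → A a ≠ 0 := fun ha e => ha (hinj (e.trans hA0.symm))
  have hNadd : ∀ a b : F, (a + b) ^ (q + 1) =
      a ^ (q + 1) + b ^ (q + 1) + (a ^ q * b + (a ^ q * b) ^ q) := fun a b => by
    rw [pow_succ, pow_succ, pow_succ, h.conj_add, mul_pow, h.conj_conj]
    ring
  have hline : ∀ a k : F, k ∈ fixedField h → ∃ κ ∈ fixedField h, A (k * a) = κ * A a := by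
    intro a k hk
    by_cases ha : a = 0
    · exact ⟨0, zero_mem _, by rw [ha, mul_zero, hA0, mul_zero]⟩
    refine ⟨A (k * a) / A a, ?_, (div_mul_cancel₀ _ (hAne ha)).symm⟩
    have h0 : a ^ q * (k * a) + (a ^ q * (k * a)) ^ q = 0 := by
      rw [mul_pow, mul_pow, h.conj_conj, hk, show a * (k * a ^ q) = a ^ q * (k * a) by ring]
      exact h.add_self _
    have hF1 := h.norm_fixed a
    have hF2 := h.norm_fixed (k * a)
    have h1 := hN (a + k * a)
    rw [hadd, hNadd, hNadd a, h0, add_zero, hβadd _ _ hF1 hF2, ← hN, ← hN, add_eq_left,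
      mul_pow, h.conj_conj] at h1
    rw [mem_fixedField, div_pow, div_eq_div_iff (pow_ne_zero _ (hAne ha)) (hAne ha)]
    linear_combination h1 - (A a ^ q * A (k * a)) * h.two
  obtain ⟨ω, hω⟩ : ∃ ω : F, ω + ω ^ q = 1 := exists_trace h (one_pow q)
  have hωK : ω ∉ fixedField h := fun e => by
    rw [mem_fixedField] at e
    rw [e, h.add_self] at hω
    exact zero_ne_one hω
  set a1 := A 1 with ha1
  set a2 := A ω with ha2
  have ha10 : a1 ≠ 0 := hAne one_ne_zero
  have ha20 : a2 ≠ 0 := hAne (fun e => by rw [e, zero_add, hq0] at hω; exact zero_ne_one hω)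
  have hα : ∀ k : fixedField h, ∃ κ : fixedField h, A k.1 = κ.1 * a1 := fun k => by
    obtain ⟨κ, hκ, e⟩ := hline 1 k.1 k.2
    exact ⟨⟨κ, hκ⟩, by rwa [mul_one] at e⟩
  choose α hα using hα
  have hγ : ∀ k : fixedField h, ∃ κ : fixedField h, A (k.1 * ω) = κ.1 * a2 := fun k => by
    obtain ⟨κ, hκ, e⟩ := hline ω k.1 k.2
    exact ⟨⟨κ, hκ⟩, e⟩
  choose γ hγ using hγ
  have hαinj : Function.Injective α := fun k k' e => by
    refine Subtype.ext (hinj ?_)
    rw [hα, hα, e]
  have hαsurj : Function.Surjective α := by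
    haveI : Finite (fixedField h) := Finite.of_injective _ Subtype.val_injective
    exact Finite.surjective_of_injective hαinj
  have hindep : ∀ κ κ' : fixedField h, κ.1 * a1 + κ'.1 * a2 = 0 → κ.1 = 0 ∧ κ'.1 = 0 := by
    intro κ κ' e
    by_cases hκ' : κ'.1 = 0
    · rw [hκ', zero_mul, add_zero, mul_eq_zero] at e
      exact ⟨e.resolve_right ha10, hκ'⟩
    exfalso
    obtain ⟨k, hk⟩ := hαsurj (κ / κ')
    refine hωK ?_
    have : A ω = A k.1 := by
      rw [hα, hk, ← ha2]
      push_cast
      field_simp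
      linear_combination e - κ.1 * a1 * h.two
    rw [hinj this]
    exact k.2
  have hγ1 : γ 1 = 1 := Subtype.ext (mul_right_cancel₀ ha20 (by
    rw [← hγ]; simp [ha2]))
  have hkey : ∀ k j : fixedField h, γ (k * j) = α k * γ j := by
    intro k j
    obtain ⟨κ, hκ, e⟩ := hline (1 + j.1 * ω) k.1 k.2
    rw [mul_add, mul_one, ← mul_assoc, hadd, hadd, hα, hγ,
      show k.1 * j.1 = ((k * j : fixedField h) : F) from rfl, hγ] at e
    obtain ⟨e1, e2⟩ := hindep (α k - ⟨κ, hκ⟩) (γ (k * j) - ⟨κ, hκ⟩ * γ j) (by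
      push_cast
      linear_combination e)
    push_cast at e1 e2
    apply Subtype.ext
    push_cast
    linear_combination e2 - (γ j).1 * e1
  have hγα : γ = α := funext fun k => by simpa [hγ1] using hkey k 1
  rw [hγα] at hkey hγ hγ1
  let τ : fixedField h →+* fixedField h :=
    { toFun := α
      map_one' := hγ1
      map_mul' := hkey
      map_zero' := Subtype.ext (mul_right_cancel₀ ha10 (by rw [← hα]; simp [hA0]))
      map_add' := fun k k' => Subtype.ext (mul_right_cancel₀ ha10 (by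
        rw [← hα]; push_cast; rw [hadd, hα, hα]; ring)) }
  obtain ⟨i, hi, hτ⟩ := exists_pow_of_ringHom h τ
  have hαi : ∀ k : fixedField h, (α k).1 = k.1 ^ 2 ^ i := fun k => by
    rw [show α k = τ k from rfl, hτ]; rfl
  have hβ : ∀ m : F, m ^ q = m → β m = m ^ 2 ^ i * a1 ^ (q + 1) := by
    intro m hm
    set k := m ^ 2 ^ (2 * n - 1) with hk
    have hkK : k ∈ fixedField h := by
      rw [mem_fixedField, hk, ← pow_mul, mul_comm, pow_mul, hm]
    have hk2 : k ^ 2 = m := by
      rw [hk, ← pow_mul, ← pow_succ, Nat.sub_add_cancel (by have := h.n_pos; omega)]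
      exact pow_two_pow_card h m
    have hkq : k ^ (q + 1) = m := by rw [pow_succ, (mem_fixedField h).1 hkK, ← sq, hk2]
    have e := hN k
    rw [hα ⟨k, hkK⟩, hαi, mul_pow, ← pow_mul, mul_comm (2 ^ i) (q + 1), pow_mul, hkq] at e
    exact e.symm
  set Q := 2 ^ (2 * n - i) with hQ
  have hiQ : ∀ x : F, (x ^ 2 ^ i) ^ Q = x := fun x => by
    rw [hQ, ← pow_mul, ← pow_add, Nat.add_sub_cancel' (by omega), pow_two_pow_card h]
  have hQi : ∀ x : F, (x ^ Q) ^ 2 ^ i = x := fun x => by
    rw [← pow_mul, mul_comm, pow_mul, hiQ]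
  have hQadd : ∀ x y : F, (x + y) ^ Q = x ^ Q + y ^ Q := h.add_pow_two_pow _
  let B : F → F := fun a => (A a / a1) ^ Q
  have hBadd : ∀ a b, B (a + b) = B a + B b := fun a b => by
    simp only [B, hadd, add_div, hQadd]
  have hBK : ∀ k : fixedField h, B k.1 = k.1 := fun k => by
    simp only [B, hα, hαi, mul_div_cancel_right₀ _ ha10, hiQ]
  have hBKω : ∀ k : fixedField h, B (k.1 * ω) = k.1 * B ω := fun k => by
    simp only [B, hγ, hαi, ← ha2, mul_div_assoc, mul_pow, hiQ]
  have hBN : ∀ a, B a ^ (q + 1) = a ^ (q + 1) := fun a => by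
    simp only [B]
    rw [← pow_mul, mul_comm, pow_mul, div_pow, hN, hβ _ (h.norm_fixed a),
      mul_div_cancel_right₀ _ (pow_ne_zero _ ha10), hiQ]
  have hB1 : B 1 = 1 := hBK 1
  have hTr : B ω + B ω ^ q = ω + ω ^ q := by
    have e := hBN (1 + ω)
    rw [hBadd, hB1, hNadd, hNadd 1, hBN] at e
    simp only [one_pow, one_mul] at e
    linear_combination e
  have hroot : (B ω - ω) * (B ω - ω ^ q) = 0 := by
    have e := hBN ω
    rw [pow_succ, pow_succ] at e
    linear_combination B ω * hTr - e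
  have hdec : ∀ a : F, ∃ x y : fixedField h, a = x.1 + y.1 * ω := by
    intro a
    have hy : a + a ^ q ∈ fixedField h := by
      rw [mem_fixedField, h.conj_add, h.conj_conj, add_comm]
    have hx : a + (a + a ^ q) * ω ∈ fixedField h := by
      rw [mem_fixedField, h.conj_add, mul_pow, (mem_fixedField h).1 hy]
      linear_combination (a + a ^ q) * hω + (a ^ q - ω * (a + a ^ q)) * h.two
    exact ⟨⟨_, hx⟩, ⟨_, hy⟩, by linear_combination -((a + a ^ q) * ω) * h.two⟩
  have hconv : ∀ a (j : ℕ), B a = a ^ 2 ^ j → A a = a1 * a ^ 2 ^ (i + j) := fun a j e => by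
    have e1 : (B a) ^ 2 ^ i = A a / a1 := hQi _
    rw [e, ← pow_mul, ← pow_add, add_comm j i] at e1
    rw [e1, mul_div_cancel₀ _ ha10]
  refine ⟨a1, ha10, ?_⟩
  rcases mul_eq_zero.1 hroot with e | e <;> rw [sub_eq_zero] at e
  · refine ⟨i, by omega, fun a => ?_⟩
    refine hconv a 0 ?_
    obtain ⟨x, y, rfl⟩ := hdec a
    rw [hBadd, hBK, hBKω, e]
    simp
  · refine ⟨i + n, by omega, fun a => hconv a n ?_⟩
    obtain ⟨x, y, rfl⟩ := hdec a
    rw [hBadd, hBK, hBKω, e, ← h.q_eq, h.conj_add, mul_pow, (mem_fixedField h).1 x.2,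
      (mem_fixedField h).1 y.2]

end CfsgLib.UThreeSylow
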